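import Mathlib.RingTheory.Valuation.ValuationRing
import Mathlib.RingTheory.Flat.TorsionFree
import Mathlib.RingTheory.LocalRing.Module
import Mathlib.RingTheory.MvPolynomial.Basic
import Mathlib.RingTheory.Polynomial.Basic
import Mathlib.RingTheory.Finiteness.Nakayama
import Mathlib.RingTheory.FinitePresentation
import Mathlib.Algebra.Polynomial.AlgebraMap
import Mathlib.Algebra.MvPolynomial.NoZeroDivisors

/-!
# Saturated submodules over finitely generated algebras over valuation rings

Over a finitely generated algebra over a valuation ring, saturated submodules of finite free modules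
are finitely generated. The proof is by the degree filtration of polynomial rings.
-/

universe u v

open MvPolynomial IsLocalRing

namespace Groth.Agent.ValCoh15

variable {R : Type u} [CommRing R]

/-- Saturation with respect to the nonzero elements of the base. -/
def IsSat (R : Type u) [CommRing R] {A : Type*} [CommRing A] [Algebra R A] {M : Type*}
    [AddCommGroup M] [Module A M] (N : Submodule A M) : Prop :=
  ∀ (c : R) (x : M), c ≠ 0 → algebraMap R A c • x ∈ N → x ∈ N

variable [IsDomain R] [ValuationRing R]

theorem exists_dvd_all {ι : Type*} (s : Finset ι) (c : ι → R) (hs : s.Nonempty) :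
    ∃ i ∈ s, ∀ j ∈ s, c i ∣ c j := by
  classical
  induction hs using Finset.Nonempty.cons_induction with
  | singleton a => exact ⟨a, by simp, by simp⟩
  | cons a t hat ht ih =>
    obtain ⟨i, hi, hdiv⟩ := ih
    rcases ValuationRing.dvd_total (c a) (c i) with h | h
    · refine ⟨a, Finset.mem_cons_self _ _, fun j hj => ?_⟩
      rcases Finset.mem_cons.1 hj with rfl | hj
      · rfl
      · exact h.trans (hdiv j hj)
    · refine ⟨i, Finset.mem_cons_of_mem hi, fun j hj => ?_⟩
      rcases Finset.mem_cons.1 hj with rfl | hj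
      · exact h
      · exact hdiv j hj

theorem fg_of_saturated_free {M : Type v} [AddCommGroup M] [Module R M] [Module.Finite R M]
    [Module.Free R M] (N : Submodule R M) (h : ∀ c : R, c ≠ 0 → ∀ x : M, c • x ∈ N → x ∈ N) :
    N.FG := by
  have htor : Submodule.torsion R (M ⧸ N) = ⊥ := by
    refine eq_bot_iff.2 fun y hy => ?_
    obtain ⟨x, rfl⟩ := Submodule.Quotient.mk_surjective N y
    obtain ⟨c, hc⟩ := hy
    rw [Submonoid.smul_def, ← Submodule.Quotient.mk_smul, Submodule.Quotient.mk_eq_zero] at hc
    rw [Submodule.mem_bot, Submodule.Quotient.mk_eq_zero]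
    exact h c (nonZeroDivisors.ne_zero c.2) x hc
  have : Module.Flat R (M ⧸ N) := Module.Flat.flat_iff_torsion_eq_bot_of_isBezout.2 htor
  have : Module.Free R (M ⧸ N) := Module.free_of_flat_of_isLocalRing
  have := Module.finitePresentation_of_projective R (M ⧸ N)
  have h2 := Module.FinitePresentation.fg_ker N.mkQ (Submodule.mkQ_surjective N)
  rwa [Submodule.ker_mkQ] at h2

variable (R) in
/-- A vector of polynomials whose coefficients all lie in the maximal ideal is a nonunit multiple. -/
theorem exists_eq_smul {n s : ℕ} (z : Fin s → MvPolynomial (Fin n) R)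
    (hz : ∀ i α, (z i).coeff α ∈ maximalIdeal R) (hz0 : z ≠ 0) :
    ∃ c ∈ maximalIdeal R, c ≠ 0 ∧ ∃ y : Fin s → MvPolynomial (Fin n) R,
      z = c • y ∧ ∀ i, (y i).totalDegree ≤ (z i).totalDegree := by
  classical
  let T : Finset (Σ _ : Fin s, (Fin n →₀ ℕ)) := Finset.univ.sigma fun i => (z i).support
  have hT : T.Nonempty := by
    obtain ⟨i, hi⟩ := Function.ne_iff.1 hz0
    obtain ⟨α, hα⟩ := MvPolynomial.support_nonempty.2 hi
    exact ⟨⟨i, α⟩, Finset.mem_sigma.2 ⟨Finset.mem_univ _, hα⟩⟩
  obtain ⟨⟨i₀, α₀⟩, hmem, hdvd⟩ := exists_dvd_all T (fun p => (z p.1).coeff p.2) hT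
  set c := (z i₀).coeff α₀ with hc
  have hc0 : c ≠ 0 := MvPolynomial.mem_support_iff.1 (Finset.mem_sigma.1 hmem).2
  have hdiv : ∀ i, C c ∣ z i := fun i => (C_dvd_iff_dvd_coeff _ _).2 fun α => by
    by_cases h : α ∈ (z i).support
    · exact hdvd ⟨i, α⟩ (Finset.mem_sigma.2 ⟨Finset.mem_univ _, h⟩)
    · rw [MvPolynomial.notMem_support_iff.1 h]; exact dvd_zero _
  choose y hy using hdiv
  refine ⟨c, hz i₀ α₀, hc0, y, funext fun i => ?_, fun i => le_of_eq ?_⟩
  · rw [Pi.smul_apply, MvPolynomial.smul_eq_C_mul]; exact hy i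
  · by_cases h : y i = 0
    · rw [hy i, h, mul_zero]
    · rw [hy i, totalDegree_mul_of_isDomain (C_ne_zero.2 hc0) h, totalDegree_C, zero_add]

variable {n s : ℕ}

/-- Reduction of a vector of polynomials. -/
noncomputable def red (y : Fin s → MvPolynomial (Fin n) R) :
    Fin s → MvPolynomial (Fin n) (ResidueField R) :=
  fun i => MvPolynomial.map (residue R) (y i)

theorem red_add (x y : Fin s → MvPolynomial (Fin n) R) : red (x + y) = red x + red y :=
  funext fun i => map_add _ _ _

theorem red_sub (x y : Fin s → MvPolynomial (Fin n) R) : red (x - y) = red x - red y :=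
  funext fun i => map_sub _ _ _

theorem red_smul (p : MvPolynomial (Fin n) R) (x : Fin s → MvPolynomial (Fin n) R) :
    red (p • x) = MvPolynomial.map (residue R) p • red x :=
  funext fun i => map_mul _ _ _

theorem red_zero : red (0 : Fin s → MvPolynomial (Fin n) R) = 0 := funext fun _ => map_zero _

/-- The Rees map. -/
noncomputable def rees (k : Type u) [CommRing k] (n : ℕ) :
    MvPolynomial (Fin (n + 1)) k →ₐ[k] Polynomial (MvPolynomial (Fin n) k) :=
  MvPolynomial.aeval (Fin.cons Polynomial.X fun i => Polynomial.C (MvPolynomial.X i) * Polynomial.X)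

section Rees

variable {k : Type u} [CommRing k]

theorem totalDegree_coeff_rees (a : MvPolynomial (Fin (n + 1)) k) (i : ℕ) :
    ((rees k n a).coeff i).totalDegree ≤ i := by
  induction a using MvPolynomial.induction_on generalizing i with
  | C c =>
    rw [rees, MvPolynomial.algHom_C, Polynomial.algebraMap_apply, Polynomial.coeff_C]
    split_ifs
    · simp
    · simp
  | add p q hp hq =>
    rw [map_add, Polynomial.coeff_add]
    exact (totalDegree_add _ _).trans (max_le (hp i) (hq i))
  | mul_X p j hp =>
    rw [map_mul, rees, aeval_X, ← rees]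
    refine Fin.cases ?_ (fun l => ?_) j
    · rw [Fin.cons_zero]
      cases i with
      | zero => simp
      | succ i => rw [Polynomial.coeff_mul_X]; exact (hp i).trans (Nat.le_succ i)
    · rw [Fin.cons_succ, ← mul_assoc]
      cases i with
      | zero => simp
      | succ i =>
        rw [Polynomial.coeff_mul_X, Polynomial.coeff_mul_C]
        refine (totalDegree_mul _ _).trans (Nat.add_le_add (hp i) ?_)
        rcases subsingleton_or_nontrivial k with h | h
        · rw [Subsingleton.elim (MvPolynomial.X l) 0, totalDegree_zero]; exact Nat.zero_le _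
        · exact (totalDegree_X l).le

theorem exists_rees_eq (d : ℕ) (w : MvPolynomial (Fin n) k) (hw : w.totalDegree ≤ d) :
    ∃ a, rees k n a = Polynomial.C w * Polynomial.X ^ d := by
  classical
  have hmon : ∀ (α : Fin n →₀ ℕ) (e : ℕ), (α.sum fun _ j => j) ≤ e →
      ∃ a, rees k n a = Polynomial.C (monomial α (1 : k)) * Polynomial.X ^ e := by
    intro α e he
    refine ⟨X 0 ^ (e - α.sum fun _ j => j) * ∏ i ∈ α.support, X i.succ ^ α i, ?_⟩
    rw [map_mul, map_pow, map_prod]
    simp only [map_pow, rees, aeval_X, Fin.cons_zero, Fin.cons_succ, mul_pow]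
    rw [Finset.prod_mul_distrib, Finset.prod_pow_eq_pow_sum, mul_comm (Polynomial.X ^ _), mul_assoc,
      ← pow_add]
    congr 1
    · simp only [← map_pow, ← map_prod]
      rw [monomial_eq, C_1, one_mul]
      rfl
    · congr 1
      exact Nat.add_sub_cancel' he
  have hsum : ∀ α ∈ w.support, ∃ a, rees k n a = Polynomial.C (monomial α (w.coeff α)) * Polynomial.X ^ d := by
    intro α hα
    obtain ⟨a, ha⟩ := hmon α d ((le_totalDegree hα).trans hw)
    refine ⟨C (w.coeff α) * a, ?_⟩
    rw [map_mul, ha, rees, MvPolynomial.algHom_C, Polynomial.algebraMap_apply, ← mul_assoc, ← map_mul,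
      MvPolynomial.algebraMap_eq, C_mul_monomial, mul_one]
  choose! a ha using hsum
  refine ⟨∑ α ∈ w.support, a α, ?_⟩
  rw [map_sum, Finset.sum_congr rfl ha, ← Finset.sum_mul, ← map_sum, ← w.as_sum]

end Rees

/-- A lift of a polynomial of bounded degree. -/
theorem exists_lift_totalDegree_le (q : MvPolynomial (Fin n) (ResidueField R)) (e : ℕ) (hq : q.totalDegree ≤ e) :
    ∃ p : MvPolynomial (Fin n) R, MvPolynomial.map (residue R) p = q ∧ p.totalDegree ≤ e := by
  classical
  choose g hg using fun α => residue_surjective (q.coeff α)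
  refine ⟨∑ α ∈ q.support, monomial α (g α), ?_, (totalDegree_finset_sum _ _).trans
    (Finset.sup_le fun α hα => (totalDegree_monomial_le _ _).trans ((le_totalDegree hα).trans hq))⟩
  rw [map_sum]
  simp only [map_monomial, hg]
  exact q.as_sum.symm

/-- The part of a submodule in degrees `≤ d`. -/
noncomputable def piece (N : Submodule (MvPolynomial (Fin n) R) (Fin s → MvPolynomial (Fin n) R)) (d : ℕ) :
    Submodule R (Fin s → MvPolynomial (Fin n) R) :=
  N.restrictScalars R ⊓ Submodule.pi Set.univ fun _ => restrictTotalDegree (Fin n) R d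

omit [IsDomain R] [ValuationRing R] in
theorem mem_piece {N : Submodule (MvPolynomial (Fin n) R) (Fin s → MvPolynomial (Fin n) R)} {d : ℕ}
    {y : Fin s → MvPolynomial (Fin n) R} :
    y ∈ piece N d ↔ y ∈ N ∧ ∀ i, (y i).totalDegree ≤ d := by
  rw [piece, Submodule.mem_inf, Submodule.restrictScalars_mem, Submodule.mem_pi]
  exact and_congr_right fun _ => ⟨fun h i => (mem_restrictTotalDegree _ _ _).1 (h i trivial),
    fun h i _ => (mem_restrictTotalDegree _ _ _).2 (h i)⟩

variable {N : Submodule (MvPolynomial (Fin n) R) (Fin s → MvPolynomial (Fin n) R)}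

theorem piece_sat (hN : IsSat R N) {d : ℕ} {c : R} (hc : c ≠ 0) {x : Fin s → MvPolynomial (Fin n) R}
    (hx : ∀ i, (x i).totalDegree ≤ d) (h : c • x ∈ N) : x ∈ piece N d :=
  mem_piece.2 ⟨hN c x hc (by rwa [algebraMap_smul]), hx⟩

theorem fg_piece (hN : IsSat R N) (d : ℕ) : (piece N d).FG := by
  have : Module.Free R (restrictTotalDegree (Fin n) R d) := Module.Free.of_basis (basisRestrictSupport R _)
  let ι : (Fin s → restrictTotalDegree (Fin n) R d) →ₗ[R] (Fin s → MvPolynomial (Fin n) R) :=
    LinearMap.pi fun i => (restrictTotalDegree (Fin n) R d).subtype ∘ₗ LinearMap.proj i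
  have h := fg_of_saturated_free ((piece N d).comap ι) (fun c hc x hx => by
    rw [Submodule.mem_comap] at hx ⊢
    rw [map_smul] at hx
    exact piece_sat hN hc (fun i => (mem_restrictTotalDegree _ _ _).1 (x i).2) (mem_piece.1 hx).1)
  have heq : ((piece N d).comap ι).map ι = piece N d := by
    refine le_antisymm (Submodule.map_comap_le _ _) fun y hy => ?_
    exact ⟨fun i => ⟨y i, (mem_restrictTotalDegree _ _ _).2 ((mem_piece.1 hy).2 i)⟩,
      show ι _ ∈ piece N d from hy, rfl⟩
  rw [← heq]
  exact h.map ι

/-- The reduction of a piece. -/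
def redPiece (N : Submodule (MvPolynomial (Fin n) R) (Fin s → MvPolynomial (Fin n) R)) (d : ℕ) :
    Set (Fin s → MvPolynomial (Fin n) (ResidueField R)) :=
  red '' (piece N d : Set (Fin s → MvPolynomial (Fin n) R))

theorem redPiece_zero (N : Submodule (MvPolynomial (Fin n) R) (Fin s → MvPolynomial (Fin n) R)) (d : ℕ) :
    (0 : Fin s → MvPolynomial (Fin n) (ResidueField R)) ∈ redPiece N d :=
  ⟨0, (piece N d).zero_mem, red_zero⟩

theorem redPiece_add {d : ℕ} {a b : Fin s → MvPolynomial (Fin n) (ResidueField R)}
    (ha : a ∈ redPiece N d) (hb : b ∈ redPiece N d) : a + b ∈ redPiece N d := by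
  obtain ⟨x, hx, rfl⟩ := ha
  obtain ⟨y, hy, rfl⟩ := hb
  exact ⟨x + y, (piece N d).add_mem hx hy, red_add x y⟩

theorem redPiece_smul {d e : ℕ} {q : MvPolynomial (Fin n) (ResidueField R)}
    {a : Fin s → MvPolynomial (Fin n) (ResidueField R)} (hq : q.totalDegree ≤ e) (ha : a ∈ redPiece N d) :
    q • a ∈ redPiece N (d + e) := by
  obtain ⟨x, hx, rfl⟩ := ha
  obtain ⟨p, hp, hpe⟩ := exists_lift_totalDegree_le q e hq
  refine ⟨p • x, mem_piece.2 ⟨N.smul_mem p (mem_piece.1 hx).1, fun i => ?_⟩, by rw [red_smul, hp]⟩
  refine (totalDegree_mul _ _).trans ?_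
  rw [add_comm d]
  exact Nat.add_le_add hpe ((mem_piece.1 hx).2 i)

/-- The coefficient vector in degree `d` of a vector over the Rees ring. -/
noncomputable def slot (v : Fin s → MvPolynomial (Fin (n + 1)) (ResidueField R)) (d : ℕ) :
    Fin s → MvPolynomial (Fin n) (ResidueField R) :=
  fun i => (rees (ResidueField R) n (v i)).coeff d

theorem slot_smul (c : MvPolynomial (Fin (n + 1)) (ResidueField R))
    (v : Fin s → MvPolynomial (Fin (n + 1)) (ResidueField R)) (d : ℕ) :
    slot (c • v) d = ∑ x ∈ Finset.antidiagonal d, (rees (ResidueField R) n c).coeff x.1 • slot v x.2 := by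
  funext i
  rw [Finset.sum_apply]
  show (rees (ResidueField R) n (c * v i)).coeff d = _
  rw [map_mul, Polynomial.coeff_mul]
  rfl

/-- The Rees module of the reductions of the pieces. -/
noncomputable def reesModule (N : Submodule (MvPolynomial (Fin n) R) (Fin s → MvPolynomial (Fin n) R)) :
    Submodule (MvPolynomial (Fin (n + 1)) (ResidueField R))
      (Fin s → MvPolynomial (Fin (n + 1)) (ResidueField R)) where
  carrier := {v | ∀ d, slot v d ∈ redPiece N d}
  add_mem' {a b} ha hb d := by
    have : slot (a + b) d = slot a d + slot b d := funext fun i => by simp [slot]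
    rw [this]; exact redPiece_add (ha d) (hb d)
  zero_mem' d := by
    have : slot (0 : Fin s → MvPolynomial (Fin (n + 1)) (ResidueField R)) d = 0 := funext fun i => by simp [slot]
    rw [this]; exact redPiece_zero N d
  smul_mem' c v hv d := by
    rw [slot_smul]
    refine Finset.sum_induction _ (· ∈ redPiece N d) (fun a b => redPiece_add) (redPiece_zero N d) fun x hx => ?_
    rw [Finset.mem_antidiagonal] at hx
    have := redPiece_smul (totalDegree_coeff_rees c x.1) (hv x.2)
    rwa [add_comm x.2, hx] at this

theorem mem_reesModule {v : Fin s → MvPolynomial (Fin (n + 1)) (ResidueField R)} :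
    v ∈ reesModule N ↔ ∀ d, slot v d ∈ redPiece N d := Iff.rfl

theorem slot_apply (v : Fin s → MvPolynomial (Fin (n + 1)) (ResidueField R)) (d : ℕ) (i : Fin s) :
    slot v d i = (rees (ResidueField R) n (v i)).coeff d := rfl

theorem mem_redPiece {d : ℕ} {a : Fin s → MvPolynomial (Fin n) (ResidueField R)} :
    a ∈ redPiece N d ↔ ∃ y ∈ piece N d, red y = a := Iff.rfl

theorem red_apply (y : Fin s → MvPolynomial (Fin n) R) (i : Fin s) :
    red y i = MvPolynomial.map (residue R) (y i) := rfl

attribute [local irreducible] rees slot red reesModule redPiece piece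

/-- Saturated submodules of finite free modules over polynomial rings over valuation rings are
finitely generated. -/
theorem fg_of_saturated_mvPolynomial (N : Submodule (MvPolynomial (Fin n) R) (Fin s → MvPolynomial (Fin n) R))
    (hN : IsSat R N) : N.FG := by
  classical
  obtain ⟨G, hG⟩ := IsNoetherian.noetherian (reesModule N)
  obtain ⟨d₀, hd₀⟩ : ∃ d₀ : ℕ, ∀ g ∈ G, ∀ i, (rees (ResidueField R) n (g i)).natDegree ≤ d₀ := by
    refine ⟨(G ×ˢ (Finset.univ : Finset (Fin s))).sup (fun p => (rees (ResidueField R) n (p.1 p.2)).natDegree), fun g hg i => ?_⟩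
    have hmem : (g, i) ∈ G ×ˢ (Finset.univ : Finset (Fin s)) := Finset.mem_product.2 ⟨hg, Finset.mem_univ i⟩
    exact Finset.le_sup (f := fun p : (Fin s → MvPolynomial (Fin (n + 1)) (ResidueField R)) × Fin s =>
      (rees (ResidueField R) n (p.1 p.2)).natDegree) hmem
  let N₁ := Submodule.span (MvPolynomial (Fin n) R) (piece N d₀ : Set (Fin s → MvPolynomial (Fin n) R))
  have hN₁ : N₁ ≤ N := Submodule.span_le.2 fun y hy => (mem_piece.1 hy).1
  have hGle : reesModule N ≤ reesModule N₁ := by
    rw [← hG, Submodule.span_le]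
    intro g hg
    refine mem_reesModule.2 fun d => ?_
    have hgM : g ∈ reesModule N := hG ▸ Submodule.subset_span hg
    by_cases hd : d ≤ d₀
    · obtain ⟨y, hy, hyr⟩ := mem_redPiece.1 (mem_reesModule.1 hgM d)
      refine mem_redPiece.2 ⟨y, mem_piece.2 ⟨Submodule.subset_span (mem_piece.2 ⟨(mem_piece.1 hy).1,
        fun i => ((mem_piece.1 hy).2 i).trans hd⟩), (mem_piece.1 hy).2⟩, hyr⟩
    · have : slot g d = 0 := funext fun i => (slot_apply g d i).trans <|
        Polynomial.coeff_eq_zero_of_natDegree_lt (lt_of_le_of_lt (hd₀ g hg i) (not_le.1 hd))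
      rw [this]; exact redPiece_zero N₁ d
  have hle : ∀ d, piece N d ≤ piece N₁ d := by
    intro d
    refine Submodule.le_of_le_smul_of_le_jacobson_bot (fg_piece hN d)
      (jacobson_eq_maximalIdeal ⊥ bot_ne_top).ge ?_
    intro x hx
    choose a ha using fun i => exists_rees_eq (k := ResidueField R) d (red x i) (by
      refine le_trans ?_ ((mem_piece.1 hx).2 i)
      rw [red_apply]; exact Finset.sup_mono (support_map_subset _ _))
    have hslot : ∀ e, slot a e = if e = d then red x else 0 := fun e => funext fun i => by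
      simp only [slot_apply, ha, Polynomial.coeff_C_mul_X_pow]
      split_ifs <;> rfl
    have haM : a ∈ reesModule N := mem_reesModule.2 fun e => by
      rw [hslot]
      split_ifs with he
      · subst he; exact mem_redPiece.2 ⟨x, hx, rfl⟩
      · exact redPiece_zero N e
    obtain ⟨y, hy, hyr⟩ := mem_redPiece.1 (mem_reesModule.1 (hGle haM) d)
    rw [hslot, if_pos rfl] at hyr
    have hxy : ∀ i α, ((x - y) i).coeff α ∈ maximalIdeal R := by
      intro i α
      rw [← residue_eq_zero_iff, ← coeff_map]
      have h1 : red (x - y) = 0 := by rw [red_sub, hyr, sub_self]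
      rw [← red_apply, h1]; rfl
    refine Submodule.mem_sup.2 ⟨y, hy, x - y, ?_, add_sub_cancel y x⟩
    by_cases h0 : x - y = 0
    · rw [h0]; exact Submodule.zero_mem _
    · obtain ⟨c, hcm, hc0, z, hz, hzd⟩ := exists_eq_smul R (x - y) hxy h0
      have hxyD : x - y ∈ piece N d :=
        (piece N d).sub_mem hx (mem_piece.2 ⟨hN₁ (mem_piece.1 hy).1, (mem_piece.1 hy).2⟩)
      rw [hz]
      refine Submodule.smul_mem_smul hcm
        (piece_sat hN hc0 (fun i => (hzd i).trans ((mem_piece.1 hxyD).2 i)) ?_)
      rw [← hz]; exact (mem_piece.1 hxyD).1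
  obtain ⟨T, hT⟩ := fg_piece hN d₀
  refine ⟨T, le_antisymm ?_ fun x hx => ?_⟩
  · refine Submodule.span_le.2 fun y hy => ?_
    have : y ∈ piece N d₀ := by rw [← hT]; exact Submodule.subset_span hy
    exact (mem_piece.1 this).1
  · have h1 : x ∈ N₁ := (mem_piece.1 (hle (Finset.univ.sup fun i => (x i).totalDegree)
      (mem_piece.2 ⟨hx, fun i => Finset.le_sup (f := fun i => (x i).totalDegree) (Finset.mem_univ i)⟩))).1
    refine Submodule.span_le.2 (fun y hy => ?_) h1
    rw [SetLike.mem_coe, ← hT] at hy
    exact Submodule.span_subset_span R (MvPolynomial (Fin n) R) _ hy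

variable {A : Type v} [CommRing A] [Algebra R A] [Algebra.FiniteType R A]

/-- Saturated submodules of finite modules over finitely generated algebras over valuation rings are
finitely generated. -/
theorem fg_of_saturated {M : Type*} [AddCommGroup M] [Module A M] [Module.Finite A M]
    (N : Submodule A M) (hN : IsSat R N) : N.FG := by
  obtain ⟨n, f, hf⟩ := Algebra.FiniteType.iff_quotient_mvPolynomial''.1 (inferInstance : Algebra.FiniteType R A)
  obtain ⟨s, p, hp⟩ := Module.Finite.exists_fin' A M
  let P := MvPolynomial (Fin n) R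
  letI : Algebra P A := f.toRingHom.toAlgebra
  let q : (Fin s → P) →ₗ[P] (Fin s → A) := LinearMap.compLeft (Algebra.linearMap P A) (Fin s)
  let N' : Submodule P (Fin s → P) := ((N.comap p).restrictScalars P).comap q
  have hN' : IsSat R N' := by
    intro c x hc hx
    simp only [N', Submodule.mem_comap, Submodule.restrictScalars_mem] at hx ⊢
    refine hN c _ hc ?_
    rw [← map_smul p]
    convert hx using 2
    funext i
    simp [q, Algebra.linearMap_apply, RingHom.algebraMap_toAlgebra, Algebra.smul_def]
  have hfg := fg_of_saturated_mvPolynomial N' hN'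
  have h2 : (N'.map q) = (N.comap p).restrictScalars P := by
    refine Submodule.map_comap_eq_of_surjective (fun y => ?_) _
    choose g hg using fun i => hf (y i)
    exact ⟨g, funext hg⟩
  have h3 : (N.comap p).FG := Submodule.FG.of_restrictScalars P (h2 ▸ hfg.map q)
  rw [← Submodule.map_comap_eq_of_surjective hp N]
  exact h3.map p

/-- Finite torsion-free modules over finitely generated algebras over valuation rings are finitely
presented. -/
theorem finitePresentation_of_torsionFree {M : Type*} [AddCommGroup M] [Module A M] [Module.Finite A M]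
    (hM : ∀ (c : R) (x : M), c ≠ 0 → algebraMap R A c • x = 0 → x = 0) : Module.FinitePresentation A M := by
  obtain ⟨s, p, hp⟩ := Module.Finite.exists_fin' A M
  refine Module.finitePresentation_of_surjective p hp (fg_of_saturated (R := R) _ fun c x hc hx => ?_)
  rw [LinearMap.mem_ker] at hx ⊢
  exact hM c _ hc (by rw [← map_smul, hx])

end Groth.Agent.ValCoh15
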